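/-
Smoothness propagates to a specialization if the rank of the differentials does not jump.
-/
import Groth.Agent.SmoothPt.Basic
import Groth.Agent.RelDim.Open
import Groth.Agent.CAlgT1.SmoothRankMain
import Groth.Agent.EtaleAtDim.Basic

set_option autoImplicit false
set_option linter.style.haveILetI false
universe u
open TensorProduct

namespace Groth.Agent.SmoothSpecialPt

variable {R A : Type u} [CommRing R] [CommRing A] [Algebra R A]

theorem finrank_eq_of_field (q : Ideal A) [q.IsPrime] (M : Type u) [AddCommGroup M] [Module A M]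
    (K : Type u) [Field K] [Algebra A K] (hK : RingHom.ker (algebraMap A K) = q) :
    Module.finrank K (K ⊗[A] M) = Module.finrank q.ResidueField (q.ResidueField ⊗[A] M) := by
  let φ : q.ResidueField →ₐ[A] K := Ideal.ResidueField.liftₐ q (Algebra.ofId A K) (le_of_eq hK.symm)
    fun x hx => IsUnit.mk0 (algebraMap A K x) fun h => hx (hK ▸ h)
  letI := φ.toRingHom.toAlgebra
  haveI : IsScalarTower A q.ResidueField K := IsScalarTower.of_algebraMap_eq fun x => (φ.commutes x).symm
  rw [← (AlgebraTensorModule.cancelBaseChange A q.ResidueField K K M).finrank_eq]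
  exact Module.finrank_baseChange

attribute [local instance] Algebra.TensorProduct.rightAlgebra in
theorem finrank_fibre (pR : Ideal R) [pR.IsPrime] (Q : Ideal (pR.Fiber A)) [Q.IsPrime] (q : Ideal A) [q.IsPrime]
    (hQ : Q.comap (Algebra.TensorProduct.includeRight.toRingHom) = q) :
    Module.finrank Q.ResidueField (Q.ResidueField ⊗[pR.Fiber A] Ω[pR.Fiber A⁄pR.ResidueField]) =
      Module.finrank q.ResidueField (q.ResidueField ⊗[A] Ω[A⁄R]) := by
  haveI : Algebra.IsPushout R pR.ResidueField A (pR.Fiber A) := TensorProduct.isPushout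
  let F := pR.Fiber A
  let e := KaehlerDifferential.tensorKaehlerEquiv R pR.ResidueField A F
  rw [← finrank_eq_of_field q Ω[A⁄R] Q.ResidueField ?_]
  · exact (((AlgebraTensorModule.cancelBaseChange A F Q.ResidueField Q.ResidueField Ω[A⁄R]).symm.trans
      (AlgebraTensorModule.congr (LinearEquiv.refl Q.ResidueField Q.ResidueField) e))).finrank_eq.symm
  · rw [← hQ, IsScalarTower.algebraMap_eq A F Q.ResidueField,
      ← RingHom.comap_ker, Ideal.ker_algebraMap_residueField]
    rfl

theorem fibre_point_unique (q : Ideal A) [q.IsPrime] (Q Q' : PrimeSpectrum ((q.under R).Fiber A))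
    (h : Q.asIdeal.comap (Algebra.TensorProduct.includeRight.toRingHom) = q)
    (h' : Q'.asIdeal.comap (Algebra.TensorProduct.includeRight.toRingHom) = q) : Q = Q' :=
  (PrimeSpectrum.preimageOrderIsoFiber R A ⟨q.under R, inferInstance⟩).symm.injective
    (Subtype.ext (PrimeSpectrum.ext (h.trans h'.symm)))

/-- Smooth points have smooth fibre points. -/
theorem fibre_smoothAt [Algebra.FinitePresentation R A] (q : Ideal A) [q.IsPrime] (hq : Algebra.IsSmoothAt R q)
    (pR : Ideal R) [pR.IsPrime] (Q : PrimeSpectrum (pR.Fiber A))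
    (hQ : Q.asIdeal.comap (Algebra.TensorProduct.includeRight.toRingHom) = q) :
    Algebra.IsSmoothAt pR.ResidueField Q.asIdeal := by
  haveI := hq
  obtain ⟨g, hg, hsm⟩ := Algebra.IsSmoothAt.exists_notMem_smooth (R := R) q
  haveI := hsm
  let e := IsLocalization.Away.tensorProductEquivTMulRight R pR.ResidueField g (Localization.Away g)
  haveI : Algebra.Smooth pR.ResidueField (pR.ResidueField ⊗[R] Localization.Away g) := inferInstance
  haveI : Algebra.FormallySmooth pR.ResidueField (Localization.Away ((1 : pR.ResidueField) ⊗ₜ[R] g)) :=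
    Algebra.FormallySmooth.of_equiv e
  have hQg : Q ∈ PrimeSpectrum.basicOpen ((1 : pR.ResidueField) ⊗ₜ[R] g) := fun h => hg (hQ ▸ h)
  haveI : Algebra.FinitePresentation pR.ResidueField (pR.Fiber A) := inferInstance
  exact (Algebra.basicOpen_subset_smoothLocus_iff (R := pR.ResidueField) (A := pR.Fiber A)).2 inferInstance hQg

theorem finrank_eq_localDim (k F : Type u) [Field k] [CommRing F] [Algebra k F] [Algebra.FiniteType k F]
    (Q : PrimeSpectrum F) (h : Algebra.IsSmoothAt k Q.asIdeal) :
    FlatMor.localDim (PrimeSpectrum F) Q =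
      ((Module.finrank Q.asIdeal.ResidueField (Q.asIdeal.ResidueField ⊗[F] Ω[F⁄k]) : ℕ) : WithBot ℕ∞) := by
  obtain ⟨hfree, hdim⟩ := EtaleAtDim.free_finrank k F Q.asIdeal h
  haveI := hfree
  let T := Localization.AtPrime Q.asIdeal
  haveI : Algebra.FormallyEtale F T := Algebra.FormallyEtale.of_isLocalization Q.asIdeal.primeCompl
  rw [((AlgebraTensorModule.cancelBaseChange F T Q.asIdeal.ResidueField Q.asIdeal.ResidueField Ω[F⁄k]).symm.trans
    (AlgebraTensorModule.congr (LinearEquiv.refl _ _)
      (KaehlerDifferential.tensorKaehlerEquivOfFormallyEtale k F T))).finrank_eq, Module.finrank_baseChange]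
  exact hdim

theorem smoothAt_specialize [IsNoetherianRing R] [Algebra.FiniteType R A] [Module.Flat R A]
    (q p : Ideal A) [q.IsPrime] [p.IsPrime] (hqp : q ≤ p) (hm : (p.under R).IsMaximal)
    (hq : Algebra.IsSmoothAt R q)
    (hrk : Module.finrank p.ResidueField (p.ResidueField ⊗[A] Ω[A⁄R]) =
      Module.finrank q.ResidueField (q.ResidueField ⊗[A] Ω[A⁄R])) :
    Algebra.IsSmoothAt R p := by
  haveI : Algebra.FinitePresentation R A := Algebra.FinitePresentation.of_finiteType.mp inferInstance
  obtain ⟨Qq, hQq⟩ : ∃ Qq : PrimeSpectrum ((q.under R).Fiber A),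
      Qq.asIdeal.comap (Algebra.TensorProduct.includeRight.toRingHom) = q := RelDim.exists_fibre_point R A ⟨q, inferInstance⟩
  obtain ⟨Qp, hQp⟩ : ∃ Qp : PrimeSpectrum ((p.under R).Fiber A),
      Qp.asIdeal.comap (Algebra.TensorProduct.includeRight.toRingHom) = p := RelDim.exists_fibre_point R A ⟨p, inferInstance⟩
  let pR := p.under R
  -- the generic point: rank of differentials is the local dimension
  have hdim := finrank_eq_localDim _ _ Qq (fibre_smoothAt q hq (q.under R) Qq hQq)
  rw [finrank_fibre (q.under R) Qq.asIdeal q hQq] at hdim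
  -- semicontinuity of the fibre dimension
  have hfib : Algebra.IsSmoothAt pR.ResidueField Qp.asIdeal := by
    rw [CAlgT1.SmoothRank.isSmoothAt_iff Qp.asIdeal, finrank_fibre pR Qp.asIdeal p hQp, hrk]
    change _ ≤ FlatMor.localDim (PrimeSpectrum (pR.Fiber A)) Qp
    obtain ⟨t, ht, -⟩ := CMLocus.exists_trdeg_residue pR.ResidueField (pR.Fiber A) Qp.asIdeal
    have hld := CAlgT1.localDim_eq_dim_add_trdeg pR.ResidueField (pR.Fiber A) Qp.asIdeal t ht
    haveI : IsNoetherianRing (pR.Fiber A) := Algebra.FiniteType.isNoetherianRing pR.ResidueField _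
    haveI : IsNoetherianRing (Localization.AtPrime Qp.asIdeal) :=
      IsLocalization.isNoetherianRing Qp.asIdeal.primeCompl _ inferInstance
    obtain ⟨h0, hh0⟩ := CAlgReg.exists_dim (R := Localization.AtPrime Qp.asIdeal)
    rw [hh0, ← Nat.cast_add] at hld
    have hmem : (⟨p, inferInstance⟩ : PrimeSpectrum A) ∈ RelDim.dimLocus R A (h0 + t) := by
      intro Q' hQ'
      rw [show Q' = Qp from fibre_point_unique p Q' Qp hQ' hQp]
      exact le_of_eq hld
    have hmem' : (⟨q, inferInstance⟩ : PrimeSpectrum A) ∈ RelDim.dimLocus R A (h0 + t) :=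
      ((PrimeSpectrum.le_iff_specializes ⟨q, inferInstance⟩ ⟨p, inferInstance⟩).1 hqp).mem_open
        (RelDim.isOpen_dimLocus R A _) hmem
    have hle := hmem' Qq hQq
    rw [hdim] at hle
    rw [hld]
    exact_mod_cast hle
  -- localise so that the fibre is smooth
  haveI := hfib
  obtain ⟨a, ha, hsm⟩ := Algebra.IsSmoothAt.exists_notMem_smooth (R := pR.ResidueField) Qp.asIdeal
  obtain ⟨g, hg⟩ : ∃ g : A, (1 : pR.ResidueField) ⊗ₜ[R] g = a := by
    have hbij : Function.Bijective (algebraMap (R ⧸ pR) pR.ResidueField) :=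
      @Ideal.bijective_algebraMap_quotient_residueField R _ pR hm
    clear ha hsm
    induction a using TensorProduct.induction_on with
    | zero => exact ⟨0, tmul_zero _ _⟩
    | add x y hx hy =>
      obtain ⟨g₁, rfl⟩ := hx; obtain ⟨g₂, rfl⟩ := hy
      exact ⟨g₁ + g₂, tmul_add _ _ _⟩
    | tmul c b =>
      obtain ⟨c', rfl⟩ := hbij.surjective c
      obtain ⟨r, rfl⟩ := Ideal.Quotient.mk_surjective c'
      refine ⟨r • b, ?_⟩
      rw [← smul_tmul, Algebra.smul_def, mul_one, IsScalarTower.algebraMap_apply R (R ⧸ pR) pR.ResidueField]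
      rfl
  have hgp : g ∉ p := fun h => ha (by rw [← hg]; rw [← hQp] at h; exact h)
  subst hg
  haveI := hsm
  let A' := Localization.Away g
  haveI : Algebra.FiniteType R A' :=
    Algebra.FiniteType.trans (S := A) inferInstance (IsLocalization.finiteType_of_monoid_fg (Submonoid.powers g) _)
  haveI : Algebra.FinitePresentation R A' := Algebra.FinitePresentation.of_finiteType.mp inferInstance
  haveI : Module.Flat A A' := IsLocalization.flat A' (Submonoid.powers g)
  haveI : Module.Flat R A' := Module.Flat.trans R A A'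
  let p' := p.map (algebraMap A A')
  have hdisj : Disjoint (Submonoid.powers g : Set A) (p : Set A) :=
    (Ideal.disjoint_powers_iff_notMem_of_isPrime _).mpr hgp
  haveI : p'.IsPrime := IsLocalization.isPrime_of_isPrime_disjoint (Submonoid.powers g) A' p ‹_› hdisj
  have hcomap : p'.comap (algebraMap A A') = p :=
    IsLocalization.under_map_of_isPrime_disjoint (Submonoid.powers g) A' ‹_› hdisj
  haveI : p'.LiesOver pR := ⟨by
    show p.comap (algebraMap R A) = p'.comap (algebraMap R A')
    rw [IsScalarTower.algebraMap_eq R A A', ← Ideal.comap_comap, hcomap]⟩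
  haveI : Algebra.FormallySmooth pR.ResidueField (pR.Fiber A') :=
    Algebra.FormallySmooth.of_equiv (IsLocalization.Away.tensorProductEquivTMulRight R pR.ResidueField g A').symm
  haveI : Module.Flat A' (Localization.AtPrime p') := IsLocalization.flat _ p'.primeCompl
  haveI : Module.Flat R (Localization.AtPrime p') := Module.Flat.trans R A' _
  have h' : Algebra.IsSmoothAt R p' := SmoothPt.isSmoothAt_of_flatAt_of_fiber pR p'
  have hm' : (⟨p', inferInstance⟩ : PrimeSpectrum A') ∈
      PrimeSpectrum.comap (algebraMap A A') ⁻¹' Algebra.smoothLocus R A := by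
    rw [Algebra.smoothLocus_comap_of_isLocalization g]
    exact h'
  have := Set.mem_preimage.1 hm'
  rwa [show PrimeSpectrum.comap (algebraMap A A') ⟨p', inferInstance⟩ = ⟨p, inferInstance⟩ from PrimeSpectrum.ext hcomap] at this

theorem isSmoothAt_dvr {Λ : Type u} [IsDomain R] [IsDiscreteValuationRing R] [CommRing Λ] [IsDomain Λ]
    [IsDiscreteValuationRing Λ] [Algebra R Λ]
    (he : (IsLocalRing.maximalIdeal R).map (algebraMap R Λ) = IsLocalRing.maximalIdeal Λ)
    [Module.Flat R A] [Algebra.FiniteType R A] [Algebra A Λ] [IsScalarTower R A Λ]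
    [(RingHom.ker (algebraMap A Λ)).IsPrime]
    (hq : Algebra.IsSmoothAt R (RingHom.ker (algebraMap A Λ)))
    (hfree : Module.Free Λ (Λ ⊗[A] Ω[A⁄R])) :
    Algebra.IsSmoothAt R ((IsLocalRing.maximalIdeal Λ).comap (algebraMap A Λ)) := by
  let p := (IsLocalRing.maximalIdeal Λ).comap (algebraMap A Λ)
  let L := FractionRing Λ
  let κ := IsLocalRing.ResidueField Λ
  haveI : Algebra.FinitePresentation R A := Algebra.FinitePresentation.of_finiteType.mp inferInstance
  have hpR : (p.under R).IsMaximal := by
    have h : IsLocalRing.maximalIdeal R ≤ p.under R := by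
      show IsLocalRing.maximalIdeal R ≤ ((IsLocalRing.maximalIdeal Λ).comap (algebraMap A Λ)).comap (algebraMap R A)
      rw [Ideal.comap_comap, ← IsScalarTower.algebraMap_eq R A Λ, ← Ideal.map_le_iff_le_comap, he]
    rw [← (IsLocalRing.maximalIdeal.isMaximal R).eq_of_le (Ideal.IsPrime.ne_top inferInstance) h]
    infer_instance
  haveI := hfree
  refine smoothAt_specialize _ p (Ideal.ker_le_comap _) hpR hq ?_
  have hκ : RingHom.ker (algebraMap A κ) = p := by
    rw [IsScalarTower.algebraMap_eq A Λ κ, ← RingHom.comap_ker,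
      show RingHom.ker (algebraMap Λ κ) = IsLocalRing.maximalIdeal Λ from Ideal.mk_ker]
  have hL : RingHom.ker (algebraMap A L) = RingHom.ker (algebraMap A Λ) := by
    rw [IsScalarTower.algebraMap_eq A Λ L, ← RingHom.comap_ker,
      (RingHom.injective_iff_ker_eq_bot _).1 (IsFractionRing.injective Λ L)]
    rfl
  rw [← finrank_eq_of_field p Ω[A⁄R] κ hκ, ← finrank_eq_of_field (RingHom.ker (algebraMap A Λ)) Ω[A⁄R] L hL,
    ← (AlgebraTensorModule.cancelBaseChange A Λ κ κ Ω[A⁄R]).finrank_eq,
    ← (AlgebraTensorModule.cancelBaseChange A Λ L L Ω[A⁄R]).finrank_eq,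
    Module.finrank_baseChange (R := κ) (S := Λ), Module.finrank_baseChange (R := L) (S := Λ)]

end Groth.Agent.SmoothSpecialPt
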